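import Cfsg.Agent.Lib.Orth.Siegel

/-!
`Ω` is perfect for `n ≥ 5`, odd `q`.
-/

set_option autoImplicit false
set_option linter.unusedSectionVars false

namespace Cfsg.Agent.Lib.Orth

open QuadraticMap
open scoped commutatorElement

variable {ι : Type} [Fintype ι] [DecidableEq ι] {F : Type*} [Field F] {Q : QuadraticForm F (ι → F)}

theorem siegel_congr {u v u' v' : ι → F} (hu : Q u = 0) (hv : Q v = 0) (huv : polar ⇑Q u v = 0)
    (hu' : Q u' = 0) (hv' : Q v' = 0) (huv' : polar ⇑Q u' v' = 0) {c c' : F}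
    (h : ∀ x, c • (polar ⇑Q u x • v - polar ⇑Q v x • u) =
      c' • (polar ⇑Q u' x • v' - polar ⇑Q v' x • u')) :
    siegel Q u v hu hv huv c = siegel Q u' v' hu' hv' huv' c' :=
  isometry_ext fun x => by rw [app_siegel, app_siegel, h x]

theorem exists_adapted_pairs (h2 : (2 : F) ≠ 0) (hQ : (QuadraticMap.polarBilin Q).Nondegenerate)
    {u v : ι → F} (hu : Q u = 0) (hv : Q v = 0) (huv : polar ⇑Q u v = 0) (hv0 : v ≠ 0)
    (hind : ∀ k : F, u ≠ k • v) : ∃ f s, TwoPairs Q u f v s := by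
  have huu := polar_self_zero hu
  have hvv := polar_self_zero hv
  obtain ⟨y, hvy, huy⟩ : ∃ y, polar ⇑Q v y = 0 ∧ polar ⇑Q u y ≠ 0 := by
    by_contra h
    push Not at h
    obtain ⟨z, hz, hvz⟩ := exists_partner hQ hv0 hv
    apply hind (polar ⇑Q u z)
    rw [← sub_eq_zero]
    refine hQ.1 _ fun x => ?_
    rw [QuadraticMap.polarBilin_apply_apply, polar_sub_left, polar_smul_left]
    have := h (x - polar ⇑Q v x • z)
      (by rw [polar_sub_right, polar_smul_right, hvz, smul_eq_mul, mul_one, sub_self])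
    rw [polar_sub_right, polar_smul_right] at this
    rw [smul_eq_mul] at this ⊢
    linear_combination this
  obtain ⟨f, hf, huf, hvf⟩ : ∃ f, Q f = 0 ∧ polar ⇑Q u f = 1 ∧ polar ⇑Q v f = 0 := by
    obtain ⟨y1, h1, h3⟩ : ∃ y1, polar ⇑Q u y1 = 1 ∧ polar ⇑Q v y1 = 0 :=
      ⟨(polar ⇑Q u y)⁻¹ • y, by rw [polar_smul_right, smul_eq_mul, inv_mul_cancel₀ huy],
        by rw [polar_smul_right, hvy, smul_zero]⟩
    refine ⟨y1 - Q y1 • u, ?_, ?_, ?_⟩
    · rw [sub_eq_add_neg, QuadraticMap.map_add (⇑Q), ← neg_smul, QuadraticMap.map_smul, hu,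
        polar_smul_right, polar_comm _ y1 u, h1, smul_zero, smul_eq_mul]
      ring
    · rw [polar_sub_right, polar_smul_right, huu, h1, smul_zero, sub_zero]
    · rw [polar_sub_right, polar_smul_right, polar_comm _ v u, huv, h3, smul_zero, sub_zero]
  obtain ⟨s1, hs1, hvs1⟩ := exists_partner hQ hv0 hv
  obtain ⟨s2, hus, hfs, hvs⟩ : ∃ s2, polar ⇑Q u s2 = 0 ∧ polar ⇑Q f s2 = 0 ∧ polar ⇑Q v s2 = 1 :=
    ⟨s1 - polar ⇑Q f s1 • u - polar ⇑Q u s1 • f,
      by simp [polar_sub_right, polar_smul_right, huu, huf],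
      by simp [polar_sub_right, polar_smul_right, polar_self_zero hf, polar_comm (⇑Q) f u, huf],
      by simp [polar_sub_right, polar_smul_right, polar_comm (⇑Q) v u, huv, hvf, hvs1]⟩
  refine ⟨f, s2 - Q s2 • v, ⟨hu, hf, hv, ?_, huf, ?_, huv, ?_, (polar_comm (⇑Q) f v).trans hvf, ?_⟩⟩
  · rw [sub_eq_add_neg, QuadraticMap.map_add (⇑Q), ← neg_smul, QuadraticMap.map_smul, hv,
      polar_smul_right, polar_comm _ s2 v, hvs, smul_zero, smul_eq_mul]
    ring
  · rw [polar_sub_right, polar_smul_right, hvv, hvs, smul_zero, sub_zero]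
  · rw [polar_sub_right, polar_smul_right, huv, hus, smul_zero, sub_zero]
  · rw [polar_sub_right, polar_smul_right, polar_comm _ f v, hvf, hfs, smul_zero, sub_zero]

variable [Finite F] (h2 : (2 : F) ≠ 0) (hQ : (QuadraticMap.polarBilin Q).Nondegenerate)
include h2 hQ

open QuadraticMap in
theorem omega_perfect (hn : 5 ≤ Fintype.card ι) :
    ⁅Omega F ⇑Q, Omega F ⇑Q⁆ = Omega F ⇑Q := by
  refine le_antisymm (Subgroup.commutator_le_self _) ?_
  set D := ⁅Omega F ⇑Q, Omega F ⇑Q⁆ with hD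
  have hsE : ∀ {g}, g ∈ siegelGroup Q → g ∈ Omega F ⇑Q := fun hg =>
    siegelGroup_le_omega h2 hQ (le_trans (by norm_num) hn) hg
  rw [omega_eq_siegelGroup h2 hQ hn, siegelGroup, Subgroup.closure_le]
  intro g hg
  obtain ⟨u, v, hu, hv, huv, c, rfl⟩ := exists_eq_siegel hg
  have htriv : ∀ h : ↥(isometryGroup F ⇑Q), (∀ x, app h x = x) → h ∈ D := fun h hh => by
    rw [show h = 1 from isometry_ext fun x => by rw [hh, app_one]]
    exact one_mem _
  by_cases hv0 : v = 0
  · exact htriv _ fun x => by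
      rw [app_siegel, hv0]
      simp [polar_zero_left]
  by_cases hdep : ∃ k : F, u = k • v
  · obtain ⟨k, rfl⟩ := hdep
    exact htriv _ fun x => by
      rw [app_siegel, polar_smul_left, smul_smul, smul_eq_mul, mul_comm k, sub_self, smul_zero,
        add_zero]
  push Not at hdep
  obtain ⟨f, s, hp⟩ := exists_adapted_pairs h2 hQ hu hv huv hv0 hdep
  -- a non-singular vector orthogonal to `u, f, v, s`
  let w : Fin 4 → ι → F := ![u + f, u - f, v + s, v - s]
  have e : ∀ {x y : ι → F}, Q x = 0 → Q y = 0 → polar ⇑Q x y = 1 →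
      Q (x + y) = 1 ∧ Q (x - y) = -1 ∧ polar ⇑Q (x + y) (x - y) = 0 := fun {x y} hx hy hxy => by
    refine ⟨by rw [QuadraticMap.map_add (⇑Q), hx, hy, hxy]; ring, ?_, ?_⟩
    · rw [sub_eq_add_neg, QuadraticMap.map_add (⇑Q), QuadraticMap.map_neg, hx, hy, polar_neg_right,
        hxy]
      ring
    · rw [polar_add_left, polar_sub_right Q x x y, polar_sub_right Q y x y, polar_self_zero hx,
        polar_self_zero hy, polar_comm _ y x, hxy]
      ring
  obtain ⟨a1, a2, a3⟩ := e hp.he hp.hf hp.hef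
  obtain ⟨b1, b2, b3⟩ := e hp.hr hp.hs hp.hrs
  have hcross : ∀ {x y : ι → F}, (x = u + f ∨ x = u - f) → (y = v + s ∨ y = v - s) →
      polar ⇑Q x y = 0 := fun {x y} hx hy => by
    rcases hx with rfl | rfl <;> rcases hy with rfl | rfl <;>
      simp [polar_add_left, polar_add_right, polar_sub_left, polar_sub_right, hp.her, hp.hes,
        hp.hfr, hp.hfs]
  have hw : ∀ i j, i ≠ j → polar ⇑Q (w i) (w j) = 0 := by
    intro i j hij
    fin_cases i <;> fin_cases j
    all_goals first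
      | exact absurd rfl hij
      | exact a3
      | exact b3
      | exact (polar_comm (⇑Q) _ _).trans a3
      | exact (polar_comm (⇑Q) _ _).trans b3
      | exact hcross (Or.inl rfl) (Or.inl rfl)
      | exact hcross (Or.inl rfl) (Or.inr rfl)
      | exact hcross (Or.inr rfl) (Or.inl rfl)
      | exact hcross (Or.inr rfl) (Or.inr rfl)
      | exact (polar_comm (⇑Q) _ _).trans (hcross (Or.inl rfl) (Or.inl rfl))
      | exact (polar_comm (⇑Q) _ _).trans (hcross (Or.inl rfl) (Or.inr rfl))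
      | exact (polar_comm (⇑Q) _ _).trans (hcross (Or.inr rfl) (Or.inl rfl))
      | exact (polar_comm (⇑Q) _ _).trans (hcross (Or.inr rfl) (Or.inr rfl))
  have hw' : ∀ i, Q (w i) ≠ 0 := by
    intro i; fin_cases i
    · exact a1 ▸ one_ne_zero
    · exact a2 ▸ neg_ne_zero.2 one_ne_zero
    · exact b1 ▸ one_ne_zero
    · exact b2 ▸ neg_ne_zero.2 one_ne_zero
  obtain ⟨z, hz, hzp⟩ := exists_nonsingular_perp h2 hQ hw hw' (by omega)
  have huz : polar ⇑Q u z = 0 := by
    have h1 : polar ⇑Q (u + f) z = 0 := hzp 0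
    have h3 : polar ⇑Q (u - f) z = 0 := hzp 1
    rw [polar_add_left] at h1
    rw [polar_sub_left] at h3
    exact (mul_eq_zero.1 (by linear_combination h1 + h3 :
      (2 : F) * polar ⇑Q u z = 0)).resolve_left h2
  have hvz : polar ⇑Q v z = 0 := by
    have h1 : polar ⇑Q (v + s) z = 0 := hzp 2
    have h3 : polar ⇑Q (v - s) z = 0 := hzp 3
    rw [polar_add_left] at h1
    rw [polar_sub_left] at h3
    exact (mul_eq_zero.1 (by linear_combination h1 + h3 :
      (2 : F) * polar ⇑Q v z = 0)).resolve_left h2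
  -- `[E_{u,z}, E_{v,tz}] = T_{u,v}(∓ 2 t Q z)`
  have hp' : TwoPairs Q v s u f :=
    ⟨hp.hr, hp.hs, hp.he, hp.hf, hp.hrs, hp.hef, (polar_comm (⇑Q) v u).trans hp.her,
      (polar_comm (⇑Q) v f).trans hp.hfr, (polar_comm (⇑Q) s u).trans hp.hes,
      (polar_comm (⇑Q) s f).trans hp.hfs⟩
  obtain ⟨A, hA, hAx⟩ := hp.eichler_mem huz
  set t := c / (2 * Q z) with ht
  obtain ⟨B, hB, hBx⟩ := hp'.eichler_mem (a := t • z)
    (by rw [polar_smul_right, hvz, smul_zero])
  have hmem : ⁅A, B⁆ ∈ D := Subgroup.commutator_mem_commutator (hsE hA) (hsE hB)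
  suffices h : siegel Q u v hu hv huv c = ⁅A, B⁆ ∨ siegel Q u v hu hv huv c = ⁅A, B⁆⁻¹ by
    rcases h with h | h <;> rw [h]
    · exact hmem
    · exact inv_mem hmem
  have key : ∀ x, app (A * B) x = app (siegel Q u v hu hv huv c * (B * A)) x := by
    intro x
    simp only [app_mul, hAx, hBx, app_siegel, eichler, QuadraticMap.map_smul]
    simp only [polar_add_right, polar_sub_right, polar_smul_right, polar_smul_left, polar_self_eq,
      hu, hv, huv, huz, hvz, polar_comm (⇑Q) v u, polar_comm (⇑Q) z u, polar_comm (⇑Q) z v,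
      smul_eq_mul, mul_zero, add_zero, sub_zero, zero_add, smul_zero, zero_mul, ht]
    match_scalars <;> field_simp <;> ring
  left
  have := isometry_ext key
  rw [commutatorElement_def, show A * B * A⁻¹ * B⁻¹ = (A * B) * (B * A)⁻¹ by group, this,
    mul_inv_cancel_right]

end Cfsg.Agent.Lib.Orth
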